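import Groth.Agent.DualTildeLib.Tensor
import Groth.Agent.DCohLib.SymNat

/-!
# The symmetry of tensor products and the tilde functor
-/

set_option autoImplicit false
set_option backward.isDefEq.respectTransparency false
set_option linter.style.haveILetI false
set_option linter.unusedSectionVars false
set_option maxHeartbeats 1000000

universe u

open CategoryTheory CategoryTheory.Limits CategoryTheory.MonoidalCategory AlgebraicGeometry
open TopologicalSpace Opposite
open Groth.Agent.DCohLib Groth.Agent.ParaFLib Groth.Agent.TildeTensorLib Groth.Agent.ModTensor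

noncomputable section

namespace Groth.Agent.DualTildeLib

section Swap

variable {X : Scheme.{u}} (M N : X.Modules)

/-- The symmetry of the tensor product of two modules. -/
def swapS : ((DCoh.tensorBi (X := X)).obj M).obj N ⟶ ((DCoh.tensorBi (X := X)).obj N).obj M :=
  ((symmIso X.sheaf).hom.app M).app N

theorem swapS_pairS {U : X.Opens} (m : Γ(M, U)) (n : Γ(N, U)) :
    (swapS M N).app U (pairS M N m n) = pairS N M n m :=
  (congr(($(shUnit_naturality X.sheaf (β_ (pre X.sheaf N) (pre X.sheaf M)).inv)).app (op U)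
    (m ⊗ₜ[Γ(X, U)] n : TensorProduct Γ(X, U) Γ(M, U) Γ(N, U)))).symm

omit M N in
theorem ι_symS (P Q : CochainComplex X.Modules ℤ) (p q n : ℤ) (h : p + q = n) :
    HomologicalComplex.ιMapBifunctor P Q (DCoh.tensorBi (X := X)) (ComplexShape.up ℤ) p q n h ≫
        (symS P Q).hom.f n =
      ((p * q).negOnePow : ℤ) • (swapS (P.X p) (Q.X q) ≫
        HomologicalComplex.ιMapBifunctor Q P (DCoh.tensorBi (X := X)) (ComplexShape.up ℤ) q p n
          (show q + p = n by omega)) := by
  unfold symS symSite
  have e1 : HomologicalComplex.ιMapBifunctor P Q (DCoh.tensorBi (X := X)) (ComplexShape.up ℤ) p q n h ≫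
      (totIso (symmIso X.sheaf) P Q).hom.f n = swapS (P.X p) (Q.X q) ≫
        HomologicalComplex.ιMapBifunctor P Q (DCoh.tensorBi (X := X)).flip (ComplexShape.up ℤ) p q n h :=
    HomologicalComplex₂.ιTotal_map _ _ (bicomplexIso (symmIso X.sheaf) P Q).hom (ComplexShape.up ℤ) p q n h
  refine (Category.assoc _ _ _).symm.trans ((congrArg (· ≫ _) e1).trans ?_)
  refine (Category.assoc _ _ _).trans ?_
  refine (congrArg (_ ≫ ·) (HomologicalComplex.ι_mapBifunctorFlipIso_hom Q P (DCoh.tensorBi (X := X))
    (ComplexShape.up ℤ) q p n h)).trans ?_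
  rw [Units.smul_def, Preadditive.comp_zsmul]
  show ((q * p).negOnePow : ℤ) • _ = _
  rw [mul_comm q p]

end Swap

variable {R : CommRingCat.{u}}

theorem alpha_swap (M N : ModuleCat.{u} R) :
    (alpha M).app N ≫ swapS (tilde M) (tilde N) = (tilde.functor R).map (β_ M N).hom ≫ (alpha N).app M := by
  show (tilde.adjunction.homEquiv _ _).symm (beta M N) ≫ _ =
    (tilde.functor R).map _ ≫ (tilde.adjunction.homEquiv _ _).symm (beta N M)
  rw [← Adjunction.homEquiv_naturality_left_symm, ← Adjunction.homEquiv_naturality_right_symm]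
  refine congrArg _ (ModuleCat.hom_ext (TensorProduct.ext' fun m n => ?_))
  show (swapS (tilde M) (tilde N)).app ⊤ (pairS (tilde M) (tilde N) (toTop M m) (toTop N n)) =
    pairS (tilde N) (tilde M) (toTop N n) (toTop M m)
  exact swapS_pairS _ _ _ _

theorem swap_alphaInv (M N : ModuleCat.{u} R) :
    swapS ((tilde.functor R).obj M) ((tilde.functor R).obj N) ≫
        ((RelPCLib.tildeTensorBiIso R).inv.app N).app M =
      ((RelPCLib.tildeTensorBiIso R).inv.app M).app N ≫ (tilde.functor R).map (β_ M N).hom := by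
  have h1 := ((RelPCLib.tildeTensorBiIso R).app M).app N
  have e : ∀ A B : ModuleCat.{u} R, (((RelPCLib.tildeTensorBiIso R).app A).app B).hom = (alpha A).app B :=
    fun A B => rfl
  show swapS (tilde M) (tilde N) ≫ (((RelPCLib.tildeTensorBiIso R).app N).app M).inv =
    (((RelPCLib.tildeTensorBiIso R).app M).app N).inv ≫ _
  rw [Iso.eq_inv_comp, ← Category.assoc, Iso.comp_inv_eq, e, e]
  exact alpha_swap M N

/-- Two maps out of the two tensor products which agree up to the symmetry stay so under tilde. -/
theorem symS_tilTensorIso_comp {K H I : CochainComplex (ModuleCat.{u} R) ℤ}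
    (a : (H ⊗ K : CochainComplex (ModuleCat.{u} R) ℤ) ⟶ I) (b : (K ⊗ H : CochainComplex (ModuleCat.{u} R) ℤ) ⟶ I)
    (hab : ∀ (p q n : ℤ) (h : p + q = n), HomologicalComplex.ιTensorObj K H p q n h ≫ b.f n =
      ((p * q).negOnePow : ℤ) • ((β_ (K.X p) (H.X q)).hom ≫
        HomologicalComplex.ιTensorObj H K q p n (show q + p = n by omega) ≫ a.f n)) :
    (symS ((TildeLpull.tilCx R).obj K) ((TildeLpull.tilCx R).obj H)).hom ≫ (tilTensorIso H K).hom ≫
        (TildeLpull.tilCx R).map a =
      (tilTensorIso K H).hom ≫ (TildeLpull.tilCx R).map b := by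
  haveI : (tilde.functor R).Additive := ⟨fun {M N f g} => tilde.map_add f g⟩
  refine HomologicalComplex.hom_ext _ _ fun n => HomologicalComplex.mapBifunctor.hom_ext fun p q hpq => ?_
  have h : p + q = n := hpq
  show _ ≫ (symS _ _).hom.f n ≫ (tilTensorIso H K).hom.f n ≫ (tilde.functor R).map (a.f n) =
    _ ≫ (tilTensorIso K H).hom.f n ≫ (tilde.functor R).map (b.f n)
  rw [reassoc_of% (ι_symS ((TildeLpull.tilCx R).obj K) ((TildeLpull.tilCx R).obj H) p q n h),
    reassoc_of% (ι_tilTensorIso K H p q n h), ← Functor.map_comp, hab p q n h, Functor.map_zsmul,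
    Preadditive.comp_zsmul, Preadditive.zsmul_comp, Category.assoc,
    reassoc_of% (ι_tilTensorIso H K q p n (show q + p = n by omega)), Functor.map_comp, Functor.map_comp]
  refine congrArg _ ?_
  exact (Category.assoc _ _ _).symm.trans ((congrArg (· ≫ _) (swap_alphaInv (K.X p) (H.X q))).trans
    (Category.assoc _ _ _))

end Groth.Agent.DualTildeLib
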