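import Groth.Agent.DualTildeLib.Main
import Groth.Agent.DualTildeLib.Sym
import Groth.Agent.DCohLib.Bidual
import Groth.Agent.DualCxLib.BidualCx

/-!
# Biduality on a noetherian affine scheme
-/

set_option autoImplicit false
set_option backward.isDefEq.respectTransparency false
set_option linter.style.haveILetI false
set_option linter.unusedSectionVars false
set_option maxHeartbeats 1000000

universe u

open CategoryTheory CategoryTheory.Limits CategoryTheory.MonoidalCategory AlgebraicGeometry
open CochainComplex.HomComplex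
open Groth.Agent.DCohLib Groth.Agent.TildePerf Groth.Agent.DRingLib

attribute [local instance] HasDerivedCategory.standard

noncomputable section

namespace Groth.Agent.DualTildeLib

variable {A : Type u} [CommRing A]

/-- The two maps out of tensor products given by evaluation agree up to the symmetry. -/
theorem evK_sign {K H E : DRing.Cx A} (ε : H ⟶ DRing.homCx K E) (p q n : ℤ) (h : p + q = n) :
    HomologicalComplex.ιTensorObj K H p q n h ≫
        (homTensorHom (DualCxLib.evK E K ≫ homCxPre ε E)).f n =
      ((p * q).negOnePow : ℤ) • ((β_ (K.X p) (H.X q)).hom ≫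
        HomologicalComplex.ιTensorObj H K q p n (show q + p = n by omega) ≫ (homTensorHom ε).f n) := by
  refine ModuleCat.hom_ext (TensorProduct.ext' fun x y => ?_)
  have hl : ∀ {L L' : DRing.Cx A} (ψ : L ⟶ DRing.homCx L' E) (a b : ℤ) (hab : a + b = n) (u : L.X a) (v : L'.X b),
      ((homTensorHom ψ).f n).hom (ιBil L L' a b n hab u v) =
        ((((ψ.f a).hom u : Cochain L' E a)).v b n (by omega)).hom v := by
    intro L L' ψ a b hab u v
    have e : (homTensorHom ψ).f n = (homTensorTo 0 (Cochain.ofHom ψ)).v n n (add_zero n) :=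
      (Cochain.ofHom_v _ n).symm.trans (congrArg (fun z => z.v n n (add_zero n)) (ofHom_homTensorHom ψ))
    rw [e, homTensorTo_ι _ a b n n a hab (add_zero a) (add_zero n), Cochain.ofHom_v]
  show ((homTensorHom (DualCxLib.evK E K ≫ homCxPre ε E)).f n).hom (ιBil K H p q n h x y) =
    ((((p * q).negOnePow : ℤˣ) : ℤ) • ((β_ (K.X p) (H.X q)).hom ≫
        HomologicalComplex.ιTensorObj H K q p n (show q + p = n by omega) ≫ (homTensorHom ε).f n)).hom (x ⊗ₜ y)
  rw [ModuleCat.hom_zsmul, LinearMap.smul_apply]
  show _ = (((p * q).negOnePow : ℤˣ) : ℤ) •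
    ((homTensorHom ε).f n).hom (ιBil H K q p n (show q + p = n by omega) y x)
  rw [hl _ p q h x y, hl ε q p (by omega) y x]
  show (((Cochain.ofHom ε).comp (DualCxLib.evCochain (E := E) K p x) (zero_add p)).v q n (by omega)).hom y = _
  rw [Cochain.zero_cochain_comp_v, Cochain.ofHom_v, ModuleCat.hom_comp, LinearMap.comp_apply,
    DualCxLib.evCochain_v K p x q n (by omega) ((ε.f q).hom y)]

variable [IsNoetherianRing A] [PreservesFiniteLimits (tilde.functor (CommRingCat.of A))]
  {ω : Dual.D A} (S : DualCxLib.Model ω)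

theorem isKInjective_tilC_model : (tilC S.E).IsKInjective := by
  let R := CommRingCat.of A
  haveI : IsNoetherianRing R := inferInstanceAs (IsNoetherianRing A)
  haveI : ∀ i, Injective ((tilC S.E).X i) := fun i => by
    haveI : Module.Injective R (S.E.X i) := S.inj i
    exact injective_tilde R (S.E.X i)
  haveI : (tilC S.E).IsStrictlyGE S.a := (CochainComplex.isStrictlyGE_iff (tilC S.E) S.a).2 fun i hi =>
    map_isZero_tilde (R := R) (S.vanishes i (Or.inl hi))
  exact CochainComplex.isKInjective_of_injective (tilC S.E) S.a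

theorem isCohD_tilC (K : DRing.Cx A) (hfin : ∀ i, Module.Finite A (K.homology i)) :
    DCoh.IsCohD (DerivedCategory.Q.obj (tilC K)) :=
  DCohMore.isCohD_of_iso' (tildeDQ K) (isCohD_tildeD (DRing.toD K) fun i =>
    haveI := hfin i
    Module.Finite.equiv (DualCxLib.hdToDEquiv K i).symm)

/-- The comparison of Hom complexes into a model of a dualizing complex is a quasi-isomorphism. -/
theorem quasiIso_phi_model (K : DRing.Cx A) (hK : DRing.IsKFlat A K)
    (hfin : ∀ i, Module.Finite A (K.homology i)) : QuasiIso (phi K S.E) := by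
  let R := CommRingCat.of A
  haveI : IsNoetherianRing R := inferInstanceAs (IsNoetherianRing A)
  haveI : IsLocallyNoetherian (Spec R) := inferInstance
  haveI := S.isKInjective
  haveI := isKInjective_tilC_model S
  haveI := DRingLib.isKInjective_homCx K S.E hK
  have hN : DCoh.IsKFlat (tilC K) := TildeLpull.isKFlat_tilCx K ((DTenLib.isKFlat_iff K).1 hK)
  have hv : ∀ i, i < S.a ∨ S.b < i → IsZero ((tilC S.E).X i) := fun i hi =>
    map_isZero_tilde (R := R) (S.vanishes i hi)
  have hJq : DCoh.IsQCohD (DerivedCategory.Q.obj (tilC S.E)) :=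
    TildeD.isQCohD_of_iso (tildeDQ S.E) (TildeD.isQCohD_tildeD R (DRing.toD S.E))
  have hq : DCoh.IsQCohD (DerivedCategory.Q.obj ((hCx (tilC K)).obj (tilC S.E))) := fun j =>
    isQCoh_of_iso' ((DerivedCategory.homologyFunctorFactors _ j).app _).symm
      (DCohMore.isQCoh_homology_hCx_bdd (tilC K) hN (isCohD_tilC K hfin) (tilC S.E) S.a S.b
        (fun n hn => hv n (Or.inl hn)) (fun n hn => hv n (Or.inr hn)) hJq j)
  exact (DerivedCategory.isIso_Q_map_iff_quasiIso (C := (Spec R).Modules) _).1 (isIso_Q_phi K S.E hN hq)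

variable (hω : Dual.IsDualizing A ω)
include hω

/-- Coherence and biduality for the sheaf of a complex with finite cohomology. -/
theorem biduality_tilC (K : DRing.Cx A) (hK : DRing.IsKFlat A K)
    (hfin : ∀ i, Module.Finite A (K.homology i)) :
    DCoh.IsCohD (DerivedCategory.Q.obj ((hCx (tilC K)).obj (tilC S.E))) ∧
      QuasiIso (bidualC (tilC K) (tilC S.E)) := by
  let R := CommRingCat.of A
  haveI : IsNoetherianRing R := inferInstanceAs (IsNoetherianRing A)
  haveI : IsLocallyNoetherian (Spec R) := inferInstance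
  haveI := S.isKInjective
  haveI := isKInjective_tilC_model S
  let H := DRing.homCx K S.E
  have hH : ∀ i, Module.Finite A (H.homology i) := DualCxLib.finite_dual S hω K hfin
  let H' : DRing.Cx A := (TildeLpull.resM A).obj H
  let ε : H' ⟶ H := (TildeLpull.resMπ A).app H
  haveI hε : QuasiIso ε := TildeLpull.quasiIso_resMπ A H
  have hH'f : DRing.IsKFlat A H' := (DTenLib.isKFlat_iff H').2 (TildeLpull.isKFlat_resM A H)
  have hH'fin : ∀ i, Module.Finite A (H'.homology i) := fun i =>
    DualCxLib.finite_homology_of_quasiIsoAt ε i inferInstance (hH i)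
  haveI h1 := quasiIso_phi_model S K hK hfin
  haveI h2 := quasiIso_phi_model S H' hH'f hH'fin
  haveI : (tilde.functor R).Additive := ⟨fun {M N f g} => tilde.map_add f g⟩
  haveI := TildeLpull.preservesHomology_tilde R
  refine ⟨DCohMore.isCohD_of_iso' ?_ (isCohD_tilC H hH), ?_⟩
  · haveI : IsIso (DerivedCategory.Q.map (phi K S.E)) :=
      (DerivedCategory.isIso_Q_map_iff_quasiIso (C := (Spec R).Modules) _).2 h1
    exact asIso (DerivedCategory.Q.map (phi K S.E))
  · have hN : DCoh.IsKFlat (tilC H') := TildeLpull.isKFlat_tilCx H' (TildeLpull.isKFlat_resM A H)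
    haveI : QuasiIso ((tilCF R).map ε) :=
      HomologicalComplex.quasiIso_map_of_preservesHomology ε (tilde.functor R)
    let γ : tilC H' ⟶ (hCx (tilC K)).obj (tilC S.E) := (tilCF R).map ε ≫ phi K S.E
    have hγ : QuasiIso γ := inferInstance
    have key : bidual γ = (tilCF R).map (DualCxLib.evK S.E K ≫ homCxPre ε S.E) ≫ phi H' S.E := by
      apply ((hAdj (tilC H')).homEquiv _ _).symm.injective
      rw [symm_comp_phi, bidual, Equiv.symm_apply_apply]
      show (symS (tilC K) (tilC H')).hom ≫ ((hAdj (tilC K)).homEquiv _ _).symm ((tilCF R).map ε ≫ phi K S.E) = _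
      rw [symm_comp_phi]
      exact symS_tilTensorIso_comp (R := R) _ _ (evK_sign ε)
    haveI : QuasiIso (DualCxLib.evK S.E K) := DualCxLib.refl_of_finite S hω K hfin
    haveI := quasiIso_homCxPre ε S.E hε
    haveI : QuasiIso ((tilCF R).map (DualCxLib.evK S.E K ≫ homCxPre ε S.E)) :=
      HomologicalComplex.quasiIso_map_of_preservesHomology _ (tilde.functor R)
    have hb : QuasiIso (bidual γ) := by
      rw [key]
      infer_instance
    exact quasiIso_of_local _ fun x => ⟨⊤, trivial,
      (quasiIso_res_bidual_iff hN γ hγ).1 (quasiIso_res_of_quasiIso _ hb)⟩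

end Groth.Agent.DualTildeLib
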