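import Groth.Agent.DRingLib.HomCxInj

/-!
# The Hom-tensor adjunction on morphisms of complexes
-/

set_option autoImplicit false
set_option linter.style.haveILetI false
set_option backward.isDefEq.respectTransparency false

universe u

open CategoryTheory Limits MonoidalCategory CochainComplex CochainComplex.HomComplex

noncomputable section

namespace Groth.Agent.DualTildeLib

open Groth.Agent.DRingLib

variable {A : Type u} [CommRing A] {L L' S I : DRing.Cx A}

/-- The map out of a tensor product attached to a map into a Hom complex. -/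
def homTensorHom (φ : L ⟶ DRing.homCx S I) : (L ⊗ S : DRing.Cx A) ⟶ I :=
  Cocycle.homOf (Cocycle.mk (homTensorEquiv 0 (Cochain.ofHom φ)) 1 rfl
    (by rw [homTensorEquiv_δ 0 1 rfl, δ_ofHom, map_zero]))

theorem ofHom_homTensorHom (φ : L ⟶ DRing.homCx S I) :
    Cochain.ofHom (homTensorHom φ) = homTensorEquiv 0 (Cochain.ofHom φ) :=
  Cocycle.cochain_ofHom_homOf_eq_coe _

theorem homTensorHom_comp (g : L' ⟶ L) (φ : L ⟶ DRing.homCx S I) :
    homTensorHom (g ≫ φ) = (g ▷ S) ≫ homTensorHom φ := by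
  apply Cochain.ofHom_injective
  rw [ofHom_homTensorHom, Cochain.ofHom_comp (g ▷ S), ofHom_homTensorHom]
  refine cochain_ext_tensor fun p q r s hr hs x y => ?_
  rw [Cochain.zero_cochain_comp_v]
  show ((homTensorTo 0 (Cochain.ofHom (g ≫ φ))).v r s hs).hom (ιBil L' S p q r hr x y) =
    (((Cochain.ofHom (g ▷ S)).v r r (add_zero r) ≫ (homTensorTo 0 (Cochain.ofHom φ)).v r s hs)).hom
      (ιBil L' S p q r hr x y)
  rw [homTensorTo_ι _ p q r s p hr (add_zero p) hs, ModuleCat.hom_comp, LinearMap.comp_apply, Cochain.ofHom_v]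
  have e : ((g ▷ S).f r).hom (ιBil L' S p q r hr x y) = ιBil L S p q r hr ((g.f p).hom x) y := by
    have h : HomologicalComplex.ιTensorObj L' S p q r hr ≫ (g ▷ S).f r =
        (g.f p ▷ S.X q) ≫ HomologicalComplex.ιTensorObj L S p q r hr := by
      refine (HomologicalComplex.ι_mapBifunctorMap g (𝟙 S) _ _ p q r hr).trans ?_
      simp
    exact congrArg (fun f => f.hom (x ⊗ₜ[A] y)) h
  rw [Cochain.ofHom_v, e, homTensorTo_ι _ p q r s p hr (add_zero p) hs, Cochain.ofHom_v]
  rfl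

theorem exists_homTensorHom_eq (a : (L ⊗ S : DRing.Cx A) ⟶ I) :
    ∃ φ : L ⟶ DRing.homCx S I, homTensorHom φ = a := by
  refine ⟨Cocycle.homOf (Cocycle.mk ((homTensorEquiv 0).symm (Cochain.ofHom a)) 1 rfl
    (by rw [homTensorEquiv_δ_symm 0 1 rfl, δ_ofHom, map_zero])), ?_⟩
  apply Cochain.ofHom_injective
  rw [ofHom_homTensorHom, Cocycle.cochain_ofHom_homOf_eq_coe, Cocycle.mk_coe, LinearEquiv.apply_symm_apply]

theorem homotopic_homTensorHom_iff (φ φ' : L ⟶ DRing.homCx S I) :
    Nonempty (Homotopy (homTensorHom φ) (homTensorHom φ')) ↔ Nonempty (Homotopy φ φ') := by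
  refine ⟨fun ⟨H⟩ => ?_, fun ⟨H⟩ => ?_⟩
  · obtain ⟨w, hw⟩ := Cochain.equivHomotopy _ _ H
    rw [ofHom_homTensorHom, ofHom_homTensorHom] at hw
    refine ⟨(Cochain.equivHomotopy φ φ').symm ⟨(homTensorEquiv (-1)).symm w, ?_⟩⟩
    rw [homTensorEquiv_δ_symm (-1) 0 rfl]
    apply (homTensorEquiv (K := L) (L := S) (M := I) 0).injective
    rw [map_add, LinearEquiv.apply_symm_apply, hw]
  · obtain ⟨w, hw⟩ := Cochain.equivHomotopy _ _ H
    refine ⟨(Cochain.equivHomotopy _ _).symm ⟨homTensorEquiv (-1) w, ?_⟩⟩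
    rw [ofHom_homTensorHom, ofHom_homTensorHom, hw, map_add, homTensorEquiv_δ (-1) 0 rfl]

end Groth.Agent.DualTildeLib
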