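import Groth.Agent.DualTildeLib.Tensor
import Groth.Agent.DualTildeLib.HomTensorHom
import Groth.Agent.DCohLib.DualBase
import Groth.Agent.DComplLib.Crit
import Groth.Agent.TildeD.Main

/-!
# Internal Hom complexes between sheaves of complexes of modules
-/

set_option autoImplicit false
set_option backward.isDefEq.respectTransparency false
set_option linter.style.haveILetI false
set_option linter.unusedSectionVars false
set_option maxHeartbeats 1000000

universe u

open CategoryTheory CategoryTheory.Limits CategoryTheory.MonoidalCategory AlgebraicGeometry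
open Groth.Agent.DCohLib Groth.Agent.TildePerf

attribute [local instance] HasDerivedCategory.standard

noncomputable section

namespace Groth.Agent.DualTildeLib

variable {A : Type u} [CommRing A] (S I : DRing.Cx A)

/-- The comparison map between Hom complexes. -/
def phi : tilC (DRing.homCx S I) ⟶ (hCx (tilC S)).obj (tilC I) :=
  (hAdj (tilC S)).homEquiv _ _ ((tilTensorIso (R := CommRingCat.of A) (DRing.homCx S I) S).hom ≫
    (tilCF (CommRingCat.of A)).map (homTensorHom (𝟙 (DRing.homCx S I))))

theorem symm_comp_phi {L : DRing.Cx A} (g : L ⟶ DRing.homCx S I) :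
    ((hAdj (tilC S)).homEquiv _ _).symm ((tilCF (CommRingCat.of A)).map g ≫ phi S I) =
      (tilTensorIso (R := CommRingCat.of A) L S).hom ≫ (tilCF (CommRingCat.of A)).map (homTensorHom g) := by
  rw [Adjunction.homEquiv_naturality_left_symm, phi, Equiv.symm_apply_apply, ← Category.assoc]
  have e := tilTensorIso_natural (R := CommRingCat.of A) g S
  refine (congrArg (· ≫ _) e).trans ?_
  rw [Category.assoc]
  refine congrArg (_ ≫ ·) ?_
  exact ((tilCF (CommRingCat.of A)).map_comp _ _).symm.trans
    (congrArg (tilCF (CommRingCat.of A)).map ((homTensorHom_comp g (𝟙 _)).symm.trans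
      (congrArg homTensorHom (Category.comp_id g))))

variable [PreservesFiniteLimits (tilde.functor (CommRingCat.of A))]

/-- The comparison of Hom complexes out of a K-flat complex is a quasi-isomorphism, provided the internal Hom
complex has quasi-coherent cohomology. -/
theorem isIso_Q_phi (hS : DCoh.IsKFlat (tilC S)) [CochainComplex.IsKInjective (DRing.homCx S I)]
    [CochainComplex.IsKInjective (tilC I)]
    (hq : DCoh.IsQCohD (DerivedCategory.Q.obj ((hCx (tilC S)).obj (tilC I)))) :
    IsIso (DerivedCategory.Q.map (phi S I)) := by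
  let R := CommRingCat.of A
  obtain ⟨hfull, hfaith, hess⟩ := TildeD.main R
  haveI := hfull
  haveI := hfaith
  haveI := isKInjective_hCx hS (tilC I)
  haveI : (tilde.functor R).Additive := ⟨fun {M N f g} => tilde.map_add f g⟩
  haveI : (tilde.functor R).Full := tilde.fullyFaithfulFunctor.full
  haveI : (tilde.functor R).Faithful := tilde.fullyFaithfulFunctor.faithful
  obtain ⟨M, ⟨e⟩⟩ := (hess _).1 hq
  let Φ : (DCoh.tildeD R).obj (DRing.toD (DRing.homCx S I)) ⟶
      DerivedCategory.Q.obj ((hCx (tilC S)).obj (tilC I)) :=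
    (tildeDQ (DRing.homCx S I)).hom ≫ DerivedCategory.Q.map (phi S I)
  have hval : ∀ (L : DRing.Cx A) (g : L ⟶ DRing.homCx S I),
      (DCoh.tildeD R).map (DerivedCategory.Q.map g) ≫ Φ =
        (tildeDQ L).hom ≫ DerivedCategory.Q.map ((tilCF R).map g ≫ phi S I) := fun L g => by
    rw [DerivedCategory.Q.map_comp]
    exact (Category.assoc _ _ _).symm.trans ((congrArg (· ≫ _) ((tildeDFac R).hom.naturality g)).trans
      (Category.assoc _ _ _))
  have key : ∀ B : Dual.D A, Function.Bijective
      (fun g : B ⟶ DRing.toD (DRing.homCx S I) => (DCoh.tildeD R).map g ≫ Φ) := by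
    intro B
    obtain ⟨L, ⟨eB⟩⟩ : ∃ L : DRing.Cx A, Nonempty (DRing.toD L ≅ B) :=
      ⟨DerivedCategory.Q.objPreimage B, ⟨DerivedCategory.Q.objObjPreimageIso B⟩⟩
    have h : Function.Bijective
        (fun g : DRing.toD L ⟶ DRing.toD (DRing.homCx S I) => (DCoh.tildeD R).map g ≫ Φ) := by
      refine ⟨fun a b hab => ?_, fun k => ?_⟩
      · obtain ⟨a, rfl⟩ := DComplLib.exists_Q_map a
        obtain ⟨b, rfl⟩ := DComplLib.exists_Q_map b
        dsimp only at hab
        rw [hval, hval, cancel_epi, Q_map_eq_iff, quotient_symm_eq_iff, symm_comp_phi, symm_comp_phi,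
          Functor.map_comp, Functor.map_comp, cancel_epi] at hab
        have h2 : (HomotopyCategory.quotient (ModuleCat.{u} A) (ComplexShape.up ℤ)).map (homTensorHom a) =
            (HomotopyCategory.quotient (ModuleCat.{u} A) (ComplexShape.up ℤ)).map (homTensorHom b) :=
          ((tilde.functor R).mapHomotopyCategory (ComplexShape.up ℤ)).map_injective hab
        obtain ⟨H⟩ := (homotopic_homTensorHom_iff a b).1 ⟨HomotopyCategory.homotopyOfEq _ _ h2⟩
        exact DerivedCategory.Q_map_eq_of_homotopy (C := ModuleCat.{u} A) H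
      · obtain ⟨h, hh⟩ := exists_Q_map ((tildeDQ L).inv ≫ k)
        obtain ⟨a, ha⟩ := (tilCF R).map_surjective
          ((tilTensorIso (R := R) L S).inv ≫ ((hAdj (tilC S)).homEquiv _ _).symm h)
        obtain ⟨φ₀, rfl⟩ := exists_homTensorHom_eq a
        refine ⟨DerivedCategory.Q.map φ₀, ?_⟩
        dsimp only
        rw [hval]
        have e2 : (tilCF R).map φ₀ ≫ phi S I = h := by
          apply ((hAdj (tilC S)).homEquiv _ _).symm.injective
          rw [symm_comp_phi, ha, Iso.hom_inv_id_assoc]
        rw [e2, hh, Iso.hom_inv_id_assoc]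
    have e' : (fun g : B ⟶ DRing.toD (DRing.homCx S I) => (DCoh.tildeD R).map g ≫ Φ) =
        (fun k => (DCoh.tildeD R).map eB.inv ≫ k) ∘ (fun g => (DCoh.tildeD R).map g ≫ Φ) ∘
          (fun g => eB.hom ≫ g) := by
      funext g
      simp only [Function.comp_apply]
      exact ((Category.assoc _ _ _).symm.trans (congrArg (· ≫ Φ) (((DCoh.tildeD R).map_comp _ _).symm.trans
        (congrArg (DCoh.tildeD R).map (eB.inv_hom_id_assoc g))))).symm
    rw [e']
    exact ((((DCoh.tildeD R).mapIso eB).homFromEquiv).bijective).comp (h.comp eB.symm.homFromEquiv.bijective)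
  let f := (DCoh.tildeD R).preimage (Φ ≫ e.inv)
  haveI : IsIso f := by
    rw [isIso_iff_yoneda_map_bijective]
    intro B
    refine (Function.Bijective.of_comp_iff'
      (f := fun k : B ⟶ M => (DCoh.tildeD R).map k ≫ e.hom) ?_ _).1 ?_
    · exact (e.homToEquiv.bijective).comp ⟨(DCoh.tildeD R).map_injective, (DCoh.tildeD R).map_surjective⟩
    · have e' : ((fun k : B ⟶ M => (DCoh.tildeD R).map k ≫ e.hom) ∘ fun g => g ≫ f) =
          fun g : B ⟶ DRing.toD (DRing.homCx S I) => (DCoh.tildeD R).map g ≫ Φ := by
        funext g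
        simp [f]
      rw [e']
      exact key B
  haveI : IsIso Φ := by
    have h : Φ = (DCoh.tildeD R).map f ≫ e.hom := by simp [f]
    rw [h]
    infer_instance
  exact IsIso.of_isIso_comp_left (tildeDQ (DRing.homCx S I)).hom _

/-- The derived tilde of a Hom complex out of a K-flat complex is the internal Hom complex, provided the latter
has quasi-coherent cohomology. -/
theorem nonempty_hCx_tilC (hS : DCoh.IsKFlat (tilC S)) [CochainComplex.IsKInjective (DRing.homCx S I)]
    [CochainComplex.IsKInjective (tilC I)]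
    (hq : DCoh.IsQCohD (DerivedCategory.Q.obj ((hCx (tilC S)).obj (tilC I)))) :
    Nonempty ((DCoh.tildeD (CommRingCat.of A)).obj (DRing.toD (DRing.homCx S I)) ≅
      DerivedCategory.Q.obj ((hCx (tilC S)).obj (tilC I))) :=
  haveI := isIso_Q_phi S I hS hq
  ⟨tildeDQ (DRing.homCx S I) ≪≫ asIso (DerivedCategory.Q.map (phi S I))⟩

end Groth.Agent.DualTildeLib
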