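import Groth.Agent.DualTildeLib.PullSym
import Groth.Agent.DCohLib.Bidual
import Groth.Agent.DCohLib.ExtTensor
import Groth.Agent.DCohMore.AffineVanish

/-!
# Restriction of internal Hom complexes
-/

set_option autoImplicit false
set_option linter.style.haveILetI false
set_option linter.unusedSectionVars false
set_option maxHeartbeats 1000000

universe u

open CategoryTheory CategoryTheory.Limits AlgebraicGeometry
open Groth.Agent.DCohLib

attribute [local instance] HasDerivedCategory.standard

noncomputable section

namespace Groth.Agent.DualTildeLib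

attribute [local irreducible] restrictTensorNat

variable {U X : Scheme.{u}} (j : U ⟶ X) [IsOpenImmersion j]

/-- The comparison of the restriction of an internal Hom complex with the internal Hom complex of the
restrictions. -/
def resTheta (N J : CochainComplex X.Modules ℤ) :
    (resCx j).obj ((hCx N).obj J) ⟶ (hCx ((resCx j).obj N)).obj ((resCx j).obj J) :=
  (hAdj ((resCx j).obj N)).homEquiv _ _
    ((restrictTensorNat j N).inv.app ((hCx N).obj J) ≫ (resCx j).map ((hAdj N).counit.app J))

theorem symm_res_comp_resTheta (N J : CochainComplex X.Modules ℤ) {A : CochainComplex X.Modules ℤ}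
    (g : A ⟶ (hCx N).obj J) :
    ((hAdj ((resCx j).obj N)).homEquiv _ _).symm ((resCx j).map g ≫ resTheta j N J) =
      (restrictTensorNat j N).inv.app A ≫ (resCx j).map (((hAdj N).homEquiv A J).symm g) := by
  rw [Adjunction.homEquiv_naturality_left_symm, resTheta, Equiv.symm_apply_apply,
    Adjunction.homEquiv_counit _ _ _ g, (resCx j).map_comp, ← Category.assoc, ← Category.assoc]
  refine congrArg (· ≫ _) ?_
  have n := (restrictTensorNat j N).inv.naturality g
  simp only [Functor.comp_map] at n
  exact n

/-- Restriction is bijective on maps out of enough complexes, also after tensoring with `N`. -/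
def ResGood (N : CochainComplex X.Modules ℤ) : Prop :=
  ∀ P : CochainComplex U.Modules ℤ, ∃ A : CochainComplex X.Modules ℤ, Nonempty ((resCx j).obj A ≅ P) ∧
    (∀ T, Function.Bijective fun g : A ⟶ T => (resCx j).map g) ∧
    ∀ T, Function.Bijective fun g : (DCoh.tensorCx.obj A).obj N ⟶ T => (resCx j).map g

theorem isIso_resTheta (N J : CochainComplex X.Modules ℤ) (hN : ResGood j N) : IsIso (resTheta j N J) := by
  rw [isIso_iff_yoneda_map_bijective]
  intro P
  obtain ⟨A, ⟨e⟩, h1, h2⟩ := hN P
  have h : Function.Bijective (fun k : (resCx j).obj A ⟶ (resCx j).obj ((hCx N).obj J) => k ≫ resTheta j N J) := by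
    refine ((h1 _).of_comp_iff _).1 ?_
    let eR : ((resCx j).obj ((DCoh.tensorCx.obj A).obj N) ⟶ ((resCx j).obj J)) ≃
        ((tenR ((resCx j).obj N)).obj ((resCx j).obj A) ⟶ ((resCx j).obj J)) := ((restrictTensorNat j N).app A).homFromEquiv
    let Φ : (A ⟶ (hCx N).obj J) ≃ ((resCx j).obj A ⟶ (hCx ((resCx j).obj N)).obj ((resCx j).obj J)) :=
      ((hAdj N).homEquiv A J).symm.trans ((Equiv.ofBijective _ (h2 J)).trans
        (eR.trans ((hAdj ((resCx j).obj N)).homEquiv ((resCx j).obj A) ((resCx j).obj J))))
    have e' : ∀ g : A ⟶ (hCx N).obj J, (resCx j).map g ≫ resTheta j N J = Φ g := by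
      intro g
      apply ((hAdj ((resCx j).obj N)).homEquiv _ _).symm.injective
      simp only [Φ, Equiv.trans_apply, Equiv.symm_apply_apply, Equiv.ofBijective_apply]
      rw [symm_res_comp_resTheta]
      exact Iso.homFromEquiv_apply ((restrictTensorNat j N).app A) _ |>.symm
    have e'' : (fun k : (resCx j).obj A ⟶ _ => k ≫ resTheta j N J) ∘
        (fun g : A ⟶ (hCx N).obj J => (resCx j).map g) = ⇑Φ := funext e'
    rw [e'']
    exact Φ.bijective
  have e' : (fun k : P ⟶ (resCx j).obj ((hCx N).obj J) => k ≫ resTheta j N J) =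
      (fun k => e.inv ≫ k) ∘ (fun k => k ≫ resTheta j N J) ∘ (fun k => e.hom ≫ k) := by
    funext k
    simp
  rw [e']
  exact (e.homFromEquiv.bijective).comp (h.comp e.symm.homFromEquiv.bijective)

/-- Restriction of the biduality map. -/
theorem res_bidual {E P J : CochainComplex X.Modules ℤ} (γ : P ⟶ (hCx E).obj J) :
    (resCx j).map (bidual γ) ≫ resTheta j P J = bidual ((resCx j).map γ ≫ resTheta j E J) := by
  apply ((hAdj ((resCx j).obj P)).homEquiv _ _).symm.injective
  rw [symm_res_comp_resTheta]
  simp only [bidual, Equiv.symm_apply_apply]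
  rw [symm_res_comp_resTheta, (resCx j).map_comp]
  exact ((Category.assoc _ _ _).symm.trans (congrArg (· ≫ _) (symS_restrictTensorNat j E P).symm)).trans
    (Category.assoc _ _ _)

section Open

variable (V : X.Opens)

theorem bijective_res_map_ext (E : CochainComplex (V : Scheme.{u}).Modules ℤ) (T : CochainComplex X.Modules ℤ) :
    Function.Bijective fun g : (extCx V).obj E ⟶ T => (resCx V.ι).map g := by
  let adj := CxOX.extZeroAdj V.ι
  have hb : ∀ (M : (V : Scheme.{u}).Modules) (N : X.Modules),
      Function.Bijective fun g : (CxOX.extZero V.ι).obj M ⟶ N => (Scheme.Modules.restrictFunctor V.ι).map g := by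
    intro M N
    haveI := isIso_extUnit V M
    have e : (fun g : (CxOX.extZero V.ι).obj M ⟶ N => (Scheme.Modules.restrictFunctor V.ι).map g) =
        (fun k => inv (adj.unit.app M) ≫ k) ∘ adj.homEquiv M N := by
      funext g
      simp [Adjunction.homEquiv_unit]
    rw [e]
    exact ((asIso (adj.unit.app M)).homFromEquiv.bijective).comp (adj.homEquiv M N).bijective
  refine ⟨fun a b hab => HomologicalComplex.hom_ext _ _ fun n =>
    (hb _ _).1 (HomologicalComplex.congr_hom hab n), fun k => ?_⟩
  choose g hg using fun n => (hb (E.X n) (T.X n)).2 (k.f n)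
  dsimp only at hg
  refine ⟨{ f := g, comm' := fun a b _ => (hb (E.X a) (T.X b)).1 ?_ }, HomologicalComplex.hom_ext _ _ fun n => hg n⟩
  show (Scheme.Modules.restrictFunctor V.ι).map (g a ≫ T.d a b) =
    (Scheme.Modules.restrictFunctor V.ι).map ((CxOX.extZero V.ι).map (E.d a b) ≫ g b)
  rw [Functor.map_comp, Functor.map_comp, hg, hg]
  exact k.comm a b

theorem bijective_res_map_of_iso {E : CochainComplex (V : Scheme.{u}).Modules ℤ} {A : CochainComplex X.Modules ℤ}
    (e : (extCx V).obj E ≅ A) (T : CochainComplex X.Modules ℤ) :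
    Function.Bijective fun g : A ⟶ T => (resCx V.ι).map g := by
  have e' : (fun g : A ⟶ T => (resCx V.ι).map g) =
      (fun k => (resCx V.ι).map e.inv ≫ k) ∘ (fun g => (resCx V.ι).map g) ∘ (fun g => e.hom ≫ g) := by
    funext g
    simp only [Function.comp_apply, ← Functor.map_comp, e.inv_hom_id_assoc]
  rw [e']
  exact (((resCx V.ι).mapIso e).homFromEquiv.bijective).comp
    ((bijective_res_map_ext V E T).comp e.symm.homFromEquiv.bijective)

/-- Affine opens are good. -/
theorem resGood_fromSpec (hV : IsAffineOpen V) (N : CochainComplex X.Modules ℤ) : ResGood hV.fromSpec N := by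
  let E := DCohMore.restrictModEquiv hV.isoSpec.symm
  haveI : E.functor.Additive := inferInstanceAs (Scheme.Modules.restrictFunctor hV.isoSpec.inv).Additive
  haveI : E.inverse.Additive := inferInstanceAs (Scheme.Modules.restrictFunctor hV.isoSpec.hom).Additive
  let F := E.functor.mapHomologicalComplex (ComplexShape.up ℤ)
  let c : resCx V.ι ⋙ F ≅ resCx hV.fromSpec :=
    NatIso.mapHomologicalComplex ((Scheme.Modules.restrictFunctorComp hV.isoSpec.inv V.ι).symm ≪≫
      Scheme.Modules.restrictFunctorCongr hV.isoSpec_inv_ι) (ComplexShape.up ℤ)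
  have key : ∀ {Q : CochainComplex (V : Scheme.{u}).Modules ℤ} {A : CochainComplex X.Modules ℤ}
      (_ : (extCx V).obj Q ≅ A) (T : CochainComplex X.Modules ℤ),
      Function.Bijective fun g : A ⟶ T => (resCx hV.fromSpec).map g := by
    intro Q A e T
    have e' : (fun g : A ⟶ T => (resCx hV.fromSpec).map g) =
        (fun k => c.inv.app A ≫ k ≫ c.hom.app T) ∘ (fun g => F.map g) ∘ (fun g => (resCx V.ι).map g) := by
      funext g
      exact (NatIso.naturality_1 c g).symm
    rw [e']
    exact ((Iso.homCongr (c.app A) (c.app T)).bijective).comp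
      (((Functor.FullyFaithful.ofFullyFaithful F).map_bijective _ _).comp (bijective_res_map_of_iso V e T))
  intro P
  let iG := E.inverse.mapHomologicalComplex (ComplexShape.up ℤ)
  let Q := iG.obj P
  refine ⟨(extCx V).obj Q, ⟨(c.app _).symm ≪≫ F.mapIso (extUnit V Q).symm ≪≫
    (NatIso.mapHomologicalComplex E.counitIso (ComplexShape.up ℤ)).app P⟩, key (Iso.refl _),
    key (extTensorCxIso V Q N)⟩

end Open

end Groth.Agent.DualTildeLib
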