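import Groth.Agent.DualTildeLib.Affine
import Groth.Agent.DualTildeLib.ResHCx
import Groth.Agent.DualCxLib.DimFn
import Groth.Agent.TildeFinLib.Basic
import Groth.Agent.DCohMore.DescFPPF
import Groth.Prelude.Def_DualSch

/-!
# Biduality on locally noetherian schemes
-/

set_option autoImplicit false
set_option linter.style.haveILetI false
set_option linter.unusedSectionVars false
set_option maxHeartbeats 1000000

universe u

open CategoryTheory CategoryTheory.Limits AlgebraicGeometry TopologicalSpace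
open Groth.Agent.DCohLib Groth.Agent.TildePerf

attribute [local instance] HasDerivedCategory.standard

noncomputable section

namespace Groth.Agent.DualTildeLib

variable {X : Scheme.{u}}

theorem quasiIso_hCx_map (N : CochainComplex X.Modules ℤ) {J J' : CochainComplex X.Modules ℤ} [J.IsKInjective]
    [J'.IsKInjective] (h : J ⟶ J') (hh : QuasiIso h) : QuasiIso ((hCx N).map h) := by
  haveI : IsIso (DerivedCategory.Q.map h) := (DerivedCategory.isIso_Q_map_iff_quasiIso (C := X.Modules) h).2 hh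
  obtain ⟨k, hk⟩ := exists_Q_map (inv (DerivedCategory.Q.map h))
  have h1 : (quotM X).map (h ≫ k) = (quotM X).map (𝟙 J) := (Q_map_eq_iff _ _).1 (by simp [hk])
  have h2 : (quotM X).map (k ≫ h) = (quotM X).map (𝟙 J') := (Q_map_eq_iff _ _).1 (by simp [hk])
  have hsymm : ∀ {A B : CochainComplex X.Modules ℤ} (a : A ⟶ B),
      ((hAdj N).homEquiv _ _).symm ((hCx N).map a) = (hAdj N).counit.app A ≫ a := fun a => by
    rw [Adjunction.homEquiv_counit]
    exact (hAdj N).counit.naturality a
  have key : ∀ {A B : CochainComplex X.Modules ℤ} (a a' : A ⟶ B), (quotM X).map a = (quotM X).map a' →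
      (quotM X).map ((hCx N).map a) = (quotM X).map ((hCx N).map a') := fun a a' haa => by
    rw [quotient_symm_eq_iff, hsymm, hsymm, Functor.map_comp, Functor.map_comp, haa]
  have e1 := key _ _ h1
  have e2 := key _ _ h2
  rw [Functor.map_comp, Functor.map_comp, CategoryTheory.Functor.map_id, CategoryTheory.Functor.map_id] at e1 e2
  haveI : IsIso ((quotM X).map ((hCx N).map h)) := ⟨(quotM X).map ((hCx N).map k), e1, e2⟩
  rw [← DerivedCategory.isIso_Q_map_iff_quasiIso]
  exact (NatIso.isIso_map_iff (DerivedCategory.quotientCompQhIso X.Modules) ((hCx N).map h)).1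
    (inferInstanceAs (IsIso (DerivedCategory.Qh.map ((quotM X).map ((hCx N).map h)))))

theorem quasiIso_hMap' {K' K : CochainComplex X.Modules ℤ} (β : K' ⟶ K) (hK' : DCoh.IsKFlat K')
    (hK : DCoh.IsKFlat K) (hβ : QuasiIso β) (J : CochainComplex X.Modules ℤ) [J.IsKInjective] :
    QuasiIso ((hMap β).app J) :=
  quasiIso_of_local _ fun _ => ⟨⊤, trivial, quasiIso_res_hMap β hK' hK (quasiIso_res_of_quasiIso β hβ) J⟩

theorem quasiIso_bidual_iff {E P J : CochainComplex X.Modules ℤ} [J.IsKInjective] (hP : DCoh.IsKFlat P)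
    (γ : P ⟶ (hCx E).obj J) (hγ : QuasiIso γ) : QuasiIso (bidual γ) ↔ QuasiIso (bidualC E J) :=
  ⟨fun h => quasiIso_of_local _ fun _ => ⟨⊤, trivial,
      (quasiIso_res_bidual_iff hP γ hγ).1 (quasiIso_res_of_quasiIso _ h)⟩,
    fun h => quasiIso_of_local _ fun _ => ⟨⊤, trivial,
      (quasiIso_res_bidual_iff hP γ hγ).2 (quasiIso_res_of_quasiIso _ h)⟩⟩

theorem bidual_comp_map {E P J J' : CochainComplex X.Modules ℤ} (γ : P ⟶ (hCx E).obj J) (h : J ⟶ J') :
    bidual (γ ≫ (hCx E).map h) = bidual γ ≫ (hCx P).map h := by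
  apply ((hAdj P).homEquiv E J').symm.injective
  rw [Adjunction.homEquiv_naturality_right_symm]
  simp only [bidual, Equiv.symm_apply_apply]
  rw [Adjunction.homEquiv_naturality_right_symm]
  exact (Category.assoc _ _ _).symm

theorem bidualC_iff_map (E : CochainComplex X.Modules ℤ) {J J' : CochainComplex X.Modules ℤ} [J.IsKInjective]
    [J'.IsKInjective] (h : J ⟶ J') (hh : QuasiIso h) : QuasiIso (bidualC E J) ↔ QuasiIso (bidualC E J') := by
  let π := (resXπ X).app ((hCx E).obj J)
  haveI := quasiIso_resXπ ((hCx E).obj J)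
  haveI := quasiIso_hCx_map E h hh
  haveI := quasiIso_hCx_map ((resX X).obj ((hCx E).obj J)) h hh
  rw [← quasiIso_bidual_iff (isKFlat_resX _) (π ≫ (hCx E).map h) inferInstance, bidual_comp_map]
  exact (quasiIso_iff_comp_right (bidualC E J) ((hCx ((resX X).obj ((hCx E).obj J))).map h)).symm

theorem bidualC_iff_pre {E' E : CochainComplex X.Modules ℤ} (β : E' ⟶ E) (hE' : DCoh.IsKFlat E')
    (hE : DCoh.IsKFlat E) (hβ : QuasiIso β) (J : CochainComplex X.Modules ℤ) [J.IsKInjective] :
    QuasiIso (bidualC E' J) ↔ QuasiIso (bidualC E J) := by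
  let π := (resXπ X).app ((hCx E).obj J)
  haveI := quasiIso_resXπ ((hCx E).obj J)
  haveI := quasiIso_hMap' β hE' hE hβ J
  have h := bidual_natural β (𝟙 _) π (π ≫ (hMap β).app J) (Category.id_comp _).symm
  rw [hMap_id, Category.comp_id] at h
  haveI := hβ
  rw [← quasiIso_bidual_iff (isKFlat_resX _) (π ≫ (hMap β).app J) inferInstance, ← h,
    quasiIso_iff_comp_left β (bidual π)]

/-- The statement to be localised. -/
def BiGood (E J : CochainComplex X.Modules ℤ) : Prop :=
  DCoh.IsCohD (DerivedCategory.Q.obj ((hCx E).obj J)) ∧ QuasiIso (bidualC E J)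

variable [IsLocallyNoetherian X]

theorem isCohD_of_quasiIso {A B : CochainComplex X.Modules ℤ} (f : A ⟶ B) (hf : QuasiIso f) :
    DCoh.IsCohD (DerivedCategory.Q.obj A) ↔ DCoh.IsCohD (DerivedCategory.Q.obj B) := by
  haveI : IsIso (DerivedCategory.Q.map f) := (DerivedCategory.isIso_Q_map_iff_quasiIso (C := X.Modules) f).2 hf
  exact ⟨DCohMore.isCohD_of_iso' (asIso (DerivedCategory.Q.map f)),
    DCohMore.isCohD_of_iso' (asIso (DerivedCategory.Q.map f)).symm⟩

theorem biGood_iff_map (E : CochainComplex X.Modules ℤ) {J J' : CochainComplex X.Modules ℤ} [J.IsKInjective]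
    [J'.IsKInjective] (h : J ⟶ J') (hh : QuasiIso h) : BiGood E J ↔ BiGood E J' :=
  and_congr (isCohD_of_quasiIso _ (quasiIso_hCx_map E h hh)) (bidualC_iff_map E h hh)

theorem biGood_iff_pre {E' E : CochainComplex X.Modules ℤ} (β : E' ⟶ E) (hE' : DCoh.IsKFlat E')
    (hE : DCoh.IsKFlat E) (hβ : QuasiIso β) (J : CochainComplex X.Modules ℤ) [J.IsKInjective] :
    BiGood E' J ↔ BiGood E J :=
  and_congr (isCohD_of_quasiIso _ (quasiIso_hMap' β hE' hE hβ J)).symm (bidualC_iff_pre β hE' hE hβ J)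

theorem isCoh_restrictFunctor {U : Scheme.{u}} (j : U ⟶ X) [IsOpenImmersion j] {M : X.Modules} (h : Coh.IsCoh M) :
    Coh.IsCoh ((Scheme.Modules.restrictFunctor j).obj M) := by
  haveI : M.IsQuasicoherent := h.1
  exact ⟨Scheme.Modules.isQuasicoherent_restrictFunctor _ _, DCohMore.isFT_restrictFunctor _ h.2⟩

omit [IsLocallyNoetherian X] in
/-- The affine case. -/
theorem biGood_affine {A : Type u} [CommRing A] [IsNoetherianRing A]
    [PreservesFiniteLimits (tilde.functor (CommRingCat.of A))] {ω : Dual.D A} (hω : Dual.IsDualizing A ω)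
    (E J : CochainComplex (Spec (CommRingCat.of A)).Modules ℤ) (hE : DCoh.IsKFlat E)
    (hEc : DCoh.IsCohD (DerivedCategory.Q.obj E)) [J.IsKInjective]
    (eJ : DerivedCategory.Q.obj J ≅ (DCoh.tildeD (CommRingCat.of A)).obj ω) : BiGood E J := by
  let R := CommRingCat.of A
  haveI : IsNoetherianRing R := inferInstanceAs (IsNoetherianRing A)
  haveI : IsLocallyNoetherian (Spec R) := inferInstance
  let S := DualCxLib.model hω
  haveI := isKInjective_tilC_model S
  let eh := eJ ≪≫ (DCoh.tildeD R).mapIso S.iso.symm ≪≫ tildeDQ S.E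
  obtain ⟨h, hh⟩ := exists_Q_map eh.hom
  have hq : QuasiIso h := (DerivedCategory.isIso_Q_map_iff_quasiIso (C := (Spec R).Modules) h).1
    (hh ▸ eh.isIso_hom)
  rw [biGood_iff_map E h hq]
  obtain ⟨M, ⟨eM⟩⟩ := ((TildeD.main R).2.2 _).1 (fun i => (hEc i).1 : DCoh.IsQCohD (DerivedCategory.Q.obj E))
  have hfin : ∀ i, Module.Finite A (Dual.HD A M i) := fun i =>
    (TildeFinLib.isFT_tilde_iff (R := R) _).1
      (isCoh_iso ((DerivedCategory.homologyFunctor _ i).mapIso eM.symm ≪≫ (TildeD.nuT R i).app M) (hEc i)).2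
  let K₀ : DRing.Cx A := DerivedCategory.Q.objPreimage M
  let K : DRing.Cx A := (TildeLpull.resM A).obj K₀
  haveI : IsIso (DerivedCategory.Q.map ((TildeLpull.resMπ A).app K₀)) :=
    (DerivedCategory.isIso_Q_map_iff_quasiIso (C := ModuleCat.{u} A) _).2 (TildeLpull.quasiIso_resMπ A K₀)
  let eK : DRing.toD K ≅ M :=
    asIso (DerivedCategory.Q.map ((TildeLpull.resMπ A).app K₀)) ≪≫ DerivedCategory.Q.objObjPreimageIso M
  have hKfin : ∀ i, Module.Finite A (K.homology i) := fun i => by
    haveI := hfin i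
    exact Module.Finite.equiv (((DerivedCategory.homologyFunctor (ModuleCat.{u} A) i).mapIso eK.symm).toLinearEquiv.trans
      (DualCxLib.hdToDEquiv K i))
  have hKf := TildeLpull.isKFlat_resM A K₀
  have hgood : BiGood (tilC K) (tilC S.E) :=
    biduality_tilC S hω K ((DTenLib.isKFlat_iff K).2 hKf) hKfin
  let e : DerivedCategory.Q.obj (tilC K) ≅ DerivedCategory.Q.obj E :=
    (tildeDQ K).symm ≪≫ (DCoh.tildeD R).mapIso eK ≪≫ eM
  obtain ⟨Z, s, hs, g, hg⟩ := DerivedCategory.right_fac e.hom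
  haveI := hs
  haveI : IsIso (DerivedCategory.Q.map g) := by
    have hcomp : IsIso (inv (DerivedCategory.Q.map s) ≫ DerivedCategory.Q.map g) := hg ▸ e.isIso_hom
    exact (isIso_comp_left_iff _ _).1 hcomp
  haveI := isIso_Q_resXπ Z
  let Z' := (resX (Spec R)).obj Z
  have q1 : QuasiIso ((resXπ (Spec R)).app Z ≫ s) :=
    (DerivedCategory.isIso_Q_map_iff_quasiIso (C := (Spec R).Modules) _).1 (by rw [Functor.map_comp]; infer_instance)
  have q2 : QuasiIso ((resXπ (Spec R)).app Z ≫ g) :=
    (DerivedCategory.isIso_Q_map_iff_quasiIso (C := (Spec R).Modules) _).1 (by rw [Functor.map_comp]; infer_instance)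
  exact (biGood_iff_pre _ (isKFlat_resX Z) hE q2 _).1
    ((biGood_iff_pre _ (isKFlat_resX Z) (TildeLpull.isKFlat_tilCx K hKf) q1 _).2 hgood)

theorem quasiIso_res_of_fromSpec {V : X.Opens} (hV : IsAffineOpen V) {A B : CochainComplex X.Modules ℤ}
    (f : A ⟶ B) (h : QuasiIso ((resCx hV.fromSpec).map f)) : QuasiIso ((resCx V.ι).map f) := by
  let E := DCohMore.restrictModEquiv hV.isoSpec.symm
  haveI : E.functor.Additive := inferInstanceAs (Scheme.Modules.restrictFunctor hV.isoSpec.inv).Additive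
  let c : resCx V.ι ⋙ E.functor.mapHomologicalComplex (ComplexShape.up ℤ) ≅ resCx hV.fromSpec :=
    NatIso.mapHomologicalComplex ((Scheme.Modules.restrictFunctorComp hV.isoSpec.inv V.ι).symm ≪≫
      Scheme.Modules.restrictFunctorCongr hV.isoSpec_inv_ι) (ComplexShape.up ℤ)
  haveI : QuasiIso ((E.functor.mapHomologicalComplex (ComplexShape.up ℤ)).map ((resCx V.ι).map f)) :=
    (quasiIso_iff_of_arrow_mk_iso _ _ (((Functor.mapArrowFunctor _ _).mapIso c).app (Arrow.mk f))).2 h
  exact (HomologicalComplex.quasiIso_map_iff_of_preservesHomology _ E.functor).1 ‹_›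

/-- Coherence and biduality with respect to a dualizing complex. -/
theorem biGood_global [∀ (U : Scheme.{u}) (j : U ⟶ X) [IsOpenImmersion j],
      PreservesFiniteLimits (Scheme.Modules.restrictFunctor j)]
    [∀ (R : CommRingCat.{u}), PreservesFiniteLimits (tilde.functor R)]
    {K : DCoh.D X} (hK : Dual2.IsDualizingSch X K)
    (J : CochainComplex X.Modules ℤ) [J.IsKInjective] (eJ : DerivedCategory.Q.obj J ≅ K)
    (L : CochainComplex X.Modules ℤ) (hL : DCoh.IsKFlat L) (hLc : DCoh.IsCohD (DerivedCategory.Q.obj L)) :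
    BiGood L J := by
  have loc : ∀ (V : X.Opens) (hV : IsAffineOpen V),
      DCoh.IsCohD (DerivedCategory.Q.obj ((resCx hV.fromSpec).obj ((hCx L).obj J))) ∧
        QuasiIso ((resCx hV.fromSpec).map (bidualC L J)) := by
    intro V hV
    let j := hV.fromSpec
    haveI : IsNoetherianRing Γ(X, V) := IsLocallyNoetherian.component_noetherian ⟨V, hV⟩
    haveI : IsLocallyNoetherian (Spec Γ(X, V)) := inferInstance
    obtain ⟨ω, hω, ⟨eω⟩⟩ := hK Γ(X, V) hV.fromSpec
    haveI := DCohMore.isKInjective_resCx_fromSpec hV J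
    have hE : DCoh.IsKFlat ((resCx j).obj L) := isKFlat_resCx j hL
    have hEc : DCoh.IsCohD (DerivedCategory.Q.obj ((resCx j).obj L)) := fun i =>
      isCoh_iso ((DerivedCategory.homologyFunctor _ i).mapIso (restrictDQ j L))
        (isCoh_iso (restrictHDIso j (DerivedCategory.Q.obj L) i).symm (isCoh_restrictFunctor j (hLc i)))
    obtain ⟨g1, g2⟩ := biGood_affine (A := Γ(X, V)) hω ((resCx j).obj L) ((resCx j).obj J) hE hEc
      ((restrictDQ j J).symm ≪≫ (DCoh.restrictD j).mapIso eJ ≪≫ eω)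
    haveI := isIso_resTheta j L J (resGood_fromSpec V hV L)
    let P := (resX X).obj ((hCx L).obj J)
    haveI := isIso_resTheta j P J (resGood_fromSpec V hV P)
    refine ⟨(isCohD_of_quasiIso (resTheta j L J) inferInstance).2 g1, ?_⟩
    let γ := (resXπ X).app ((hCx L).obj J)
    haveI hπ : QuasiIso ((resCx j).map γ) := by
      haveI := quasiIso_resXπ ((hCx L).obj J)
      infer_instance
    have hP : DCoh.IsKFlat ((resCx j).obj P) := isKFlat_resCx j (isKFlat_resX _)
    have h := (quasiIso_bidual_iff hP ((resCx j).map γ ≫ resTheta j L J) inferInstance).2 g2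
    rw [← res_bidual j γ] at h
    haveI := h
    exact quasiIso_of_comp_right _ (resTheta j P J)
  refine ⟨fun i => ?_, quasiIso_of_local _ fun x => ?_⟩
  · refine (Groth.Agent.QCohLib.isCoh_iff_isFP _).2 (isFP_of_local fun x => ?_)
    obtain ⟨_, ⟨V : X.Opens, hV, rfl⟩, hx, -⟩ :=
      X.isBasis_affineOpens.exists_subset_of_mem_open (a := x) (Set.mem_univ x) isOpen_univ
    obtain ⟨y, hy⟩ : x ∈ Set.range hV.fromSpec := hV.range_fromSpec.ge hx
    haveI : IsNoetherianRing Γ(X, V) := IsLocallyNoetherian.component_noetherian ⟨V, hV⟩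
    refine ⟨_, hV.fromSpec, inferInstance, y, hy, (Groth.Agent.QCohLib.isCoh_iff_isFP _).1
      (isCoh_iso (restrictHDIso hV.fromSpec _ i) ?_)⟩
    exact isCoh_iso ((DerivedCategory.homologyFunctor _ i).mapIso (restrictDQ hV.fromSpec _)).symm ((loc V hV).1 i)
  · obtain ⟨_, ⟨V : X.Opens, hV, rfl⟩, hx, -⟩ :=
      X.isBasis_affineOpens.exists_subset_of_mem_open (a := x) (Set.mem_univ x) isOpen_univ
    exact ⟨V, hx, quasiIso_res_of_fromSpec hV _ (loc V hV).2⟩

end Groth.Agent.DualTildeLib
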