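import Groth.Agent.LocNoethMod.Stalks
import Groth.Agent.TildeTensorLib.Basic

/-!
# The sheaf of an injective module on a noetherian affine scheme
-/

set_option autoImplicit false
set_option backward.isDefEq.respectTransparency false
set_option linter.style.haveILetI false

universe u

open CategoryTheory Limits AlgebraicGeometry

noncomputable section

namespace Groth.Agent.DualTildeLib

theorem injective_tilde (R : CommRingCat.{u}) [IsNoetherianRing R] (M : ModuleCat.{u} R)
    [Module.Injective R M] : Injective ((tilde.functor R).obj M) := by
  haveI hq : Coh.IsQCoh (tilde M) := TildeD.isQCoh_tilde M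
  haveI : Module.Injective Γ(Spec R, ⊤) Γ(tilde M, ⊤) := by
    let σ : R ≃+* Γ(Spec R, ⊤) := (Scheme.ΓSpecIso R).symm.commRingCatIsoToRingEquiv
    letI := RingHomInvPair.of_ringEquiv σ
    letI := RingHomInvPair.symm (RingHomClass.toRingHom σ) (RingHomClass.toRingHom σ.symm)
    have hb : Function.Bijective (TildeTensorLib.toTop M) :=
      (ConcreteCategory.isIso_iff_bijective (tilde.toOpen M ⊤)).1 inferInstance
    let E : M ≃ₛₗ[RingHomClass.toRingHom σ] Γ(tilde M, ⊤) :=
      { AddEquiv.ofBijective (TildeTensorLib.toTop M).toAddMonoidHom hb with
        map_smul' := fun r m => map_smul (TildeTensorLib.toTop M) r m }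
    exact Module.Injective.of_ringEquiv σ E
  exact LocNoethMod.injective_of_sections (tilde M)

end Groth.Agent.DualTildeLib
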