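import Groth.Agent.DualTildeLib.Inj
import Groth.Agent.DualTildeLib.Core
import Groth.Agent.DCohMore.RHomInjBdd
import Groth.Agent.DTenLib.Res
import Groth.Agent.S2720

/-!
# Affine duality: internal Hom between sheaves of complexes
-/

set_option autoImplicit false
set_option backward.isDefEq.respectTransparency false
set_option linter.style.haveILetI false
set_option linter.unusedSectionVars false
set_option maxHeartbeats 1000000

universe u

open CategoryTheory CategoryTheory.Limits AlgebraicGeometry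
open Groth.Agent.DCohLib Groth.Agent.TildePerf

attribute [local instance] HasDerivedCategory.standard

noncomputable section

namespace Groth.Agent.DualTildeLib

variable {A : Type u} [CommRing A] [IsNoetherianRing A] [PreservesFiniteLimits (tilde.functor (CommRingCat.of A))]

theorem isCohD_tildeD (K : Dual.D A) (hK : ∀ i : ℤ, Module.Finite A (Dual.HD A K i)) :
    DCoh.IsCohD ((DCoh.tildeD (CommRingCat.of A)).obj K) := fun i => by
  haveI : IsNoetherianRing (CommRingCat.of A) := inferInstanceAs (IsNoetherianRing A)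
  haveI := hK i
  exact isCoh_iso ((TildeD.nuT (CommRingCat.of A) i).app K).symm
    (S2720.isCoh_tilde' (R := CommRingCat.of A) (ModuleCat.of A (Dual.HD A K i)))

theorem nonempty_rSheafHom_tilde (K : DRing.Cx A) (hK : ∀ i : ℤ, Module.Finite A (Dual.HD A (DRing.toD K) i))
    [DRing.HasRHomCx K] (L : Dual.D A) (hL : DRing.HasFiniteInjDim A L)
    (E : CochainComplex (Spec (CommRingCat.of A)).Modules ℤ)
    (hE : Nonempty (DCoh.toD (Spec (CommRingCat.of A)) E ≅ (DCoh.tildeD (CommRingCat.of A)).obj (DRing.toD K)))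
    [DCoh.HasLTensorCx E] [DCoh.HasRSheafHom E] :
    Nonempty ((DCoh.RSheafHom E).obj ((DCoh.tildeD (CommRingCat.of A)).obj L) ≅
      (DCoh.tildeD (CommRingCat.of A)).obj ((DRing.RHomCx K).obj L)) := by
  let R := CommRingCat.of A
  haveI : IsNoetherianRing R := inferInstanceAs (IsNoetherianRing A)
  haveI : IsLocallyNoetherian (Spec R) := inferInstance
  obtain ⟨a, b, I, hab, hinj, ⟨eI⟩⟩ := hL
  haveI : I.IsStrictlyGE a := (CochainComplex.isStrictlyGE_iff I a).2 fun i hi => hab i (Or.inl hi)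
  haveI : ∀ i, Injective (I.X i) := fun i => by
    haveI := hinj i
    exact Module.injective_object_of_injective_module _ _
  haveI : I.IsKInjective := CochainComplex.isKInjective_of_injective I a
  have htab : ∀ i : ℤ, i < a ∨ b < i → IsZero ((tilC I).X i) := fun i hi => map_isZero_tilde (R := R) (hab i hi)
  haveI : ∀ i, Injective ((tilC I).X i) := fun i => by
    haveI : Module.Injective R (I.X i) := hinj i
    exact injective_tilde R (I.X i)
  haveI : (tilC I).IsStrictlyGE a :=
    (CochainComplex.isStrictlyGE_iff (tilC I) a).2 fun i hi => htab i (Or.inl hi)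
  haveI : (tilC I).IsKInjective := CochainComplex.isKInjective_of_injective (tilC I) a
  let K' : DRing.Cx A := (TildeLpull.resM A).obj K
  have hK'f := TildeLpull.isKFlat_resM A K
  haveI := DRingLib.isKInjective_homCx K' I ((DTenLib.isKFlat_iff K').2 hK'f)
  have hN : DCoh.IsKFlat (tilC K') := TildeLpull.isKFlat_tilCx K' hK'f
  haveI : IsIso (DerivedCategory.Q.map ((TildeLpull.resMπ A).app K)) :=
    (DerivedCategory.isIso_Q_map_iff_quasiIso (C := ModuleCat.{u} A) _).2 (TildeLpull.quasiIso_resMπ A K)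
  let eK : DRing.toD K' ≅ DRing.toD K := asIso (DerivedCategory.Q.map ((TildeLpull.resMπ A).app K))
  let eN : DerivedCategory.Q.obj (tilC K') ≅ DCoh.toD (Spec R) E :=
    (tildeDQ K').symm ≪≫ (DCoh.tildeD R).mapIso eK ≪≫ hE.some.symm
  have hNc : DCoh.IsCohD (DerivedCategory.Q.obj (tilC K')) :=
    DCohMore.isCohD_of_iso' (((tildeDQ K').symm ≪≫ (DCoh.tildeD R).mapIso eK)).symm (isCohD_tildeD _ hK)
  have hJq : DCoh.IsQCohD (DerivedCategory.Q.obj (tilC I)) :=
    TildeD.isQCohD_of_iso (tildeDQ I) (TildeD.isQCohD_tildeD R (DRing.toD I))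
  have hq : DCoh.IsQCohD (DerivedCategory.Q.obj ((hCx (tilC K')).obj (tilC I))) := fun j =>
    isQCoh_of_iso' ((DerivedCategory.homologyFunctorFactors _ j).app _).symm
      (DCohMore.isQCoh_homology_hCx_bdd (tilC K') hN hNc (tilC I) a b (fun n hn => htab n (Or.inl hn))
        (fun n hn => htab n (Or.inr hn)) hJq j)
  obtain ⟨e₁⟩ := nonempty_hCx_tilC K' I hN hq
  haveI := hasRSheafHom_of_isKFlat (tilC K') hN
  obtain ⟨t⟩ := nonempty_lTensor_of_iso eN
  let u : DCoh.RSheafHom (tilC K') ≅ DCoh.RSheafHom E :=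
    (DCoh.RSheafHomAdj (tilC K')).rightAdjointUniq ((DCoh.RSheafHomAdj E).ofNatIsoLeft t.symm)
  obtain ⟨e₂⟩ := nonempty_rSheafHom_hCx (tilC K') hN (tilC I)
  obtain ⟨e₃⟩ := DRingLib.nonempty_RHomCx_kInjective K I
  haveI := DRingLib.quasiIso_homCxPre ((TildeLpull.resMπ A).app K) I (TildeLpull.quasiIso_resMπ A K)
  haveI : IsIso (DerivedCategory.Q.map (DRingLib.homCxPre ((TildeLpull.resMπ A).app K) I)) :=
    (DerivedCategory.isIso_Q_map_iff_quasiIso (C := ModuleCat.{u} A) _).2 ‹_›
  exact ⟨(DCoh.RSheafHom E).mapIso ((DCoh.tildeD R).mapIso eI.symm ≪≫ tildeDQ I) ≪≫ (u.app _).symm ≪≫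
    e₂.symm ≪≫ e₁.symm ≪≫ (DCoh.tildeD R).mapIso
      ((asIso (DerivedCategory.Q.map (DRingLib.homCxPre ((TildeLpull.resMπ A).app K) I))).symm ≪≫ e₃.symm ≪≫
        (DRing.RHomCx K).mapIso eI)⟩

end Groth.Agent.DualTildeLib
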