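import Groth.Agent.DualTildeLib.Sym
import Groth.Agent.DCohLib.TensorLinv

/-!
# The symmetry of tensor products and inverse images
-/

set_option autoImplicit false
set_option backward.isDefEq.respectTransparency false
set_option linter.style.haveILetI false
set_option linter.unusedSectionVars false
set_option maxHeartbeats 1000000

universe u

open CategoryTheory CategoryTheory.Limits CategoryTheory.MonoidalCategory AlgebraicGeometry
open TopologicalSpace Opposite TensorProduct
open Groth.Agent.DCohLib Groth.Agent.ModTensor Groth.Agent.PullFlat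

noncomputable section

namespace Groth.Agent.DualTildeLib

section Site

variable {C D : Type u} [SmallCategory C] [SmallCategory D] {J : GrothendieckTopology C}
  {K : GrothendieckTopology D} {O_C : Sheaf J CommRingCat.{u}} {O_D : Sheaf K CommRingCat.{u}}
  (f : ModSite.RMor O_C O_D)

theorem swap_pairT {O : Sheaf J CommRingCat.{u}} (M N : ModSite.Mod O) {U : C}
    (m : (pre O M).obj (op U)) (n : (pre O N).obj (op U)) :
    lin ((preFunctor O).map (((symmIso O).hom.app M).app N)) (op U) (pairT O M N m n) = pairT O N M n m :=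
  (congr(($(shUnit_naturality O (β_ (pre O N) (pre O M)).inv)).app (op U) (m ⊗ₜ[O.obj.obj (op U)] n :
    ((pre O M).obj (op U) : Type u) ⊗[O.obj.obj (op U)] ((pre O N).obj (op U) : Type u)))).symm

/-- Inverse images of tensor products respect the symmetry. -/
theorem tensorCmp_swap (M N : ModSite.Mod O_D) :
    f.pull.map (((symmIso O_D).hom.app M).app N) ≫ tensorCmp f N M =
      tensorCmp f M N ≫ ((symmIso O_C).hom.app (f.pull.obj M)).app (f.pull.obj N) := by
  apply (f.adj.homEquiv _ _).injective
  rw [f.adj.homEquiv_naturality_left, f.adj.homEquiv_naturality_right]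
  have e1 := fun A B : ModSite.Mod O_D => (Equiv.apply_symm_apply (f.adj.homEquiv _ _)
    (((PresheafOfModules.sheafificationAdjunction (𝟙 (ModSite.ringSh O_D).obj)).homEquiv _ _).symm
      (pairPush f A B)) : f.adj.homEquiv _ _ (tensorCmp f A B) = _)
  refine ((congrArg (((symmIso O_D).hom.app M).app N ≫ ·) (e1 N M)).trans ?_).trans
    (congrArg (· ≫ f.push.map _) (e1 M N)).symm
  let adj := PresheafOfModules.sheafificationAdjunction (𝟙 (ModSite.ringSh O_D).obj)
  apply (adj.homEquiv _ _).injective
  refine (adj.homEquiv_naturality_left (β_ (pre O_D N) (pre O_D M)).inv _).trans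
    (Eq.trans ?_ (adj.homEquiv_naturality_right _ _).symm)
  refine ((congrArg ((β_ (pre O_D N) (pre O_D M)).inv ≫ ·) (Equiv.apply_symm_apply _ _)).trans ?_).trans
    (congrArg (· ≫ _) (Equiv.apply_symm_apply (adj.homEquiv _ _) (pairPush f M N))).symm
  refine PresheafOfModules.hom_ext fun V => ModuleCat.hom_ext (LinearMap.ext fun z => ?_)
  obtain ⟨V⟩ := V
  change ((pre O_D M).obj (op V) : Type u) ⊗[O_D.obj.obj (op V)] ((pre O_D N).obj (op V) : Type u) at z
  show pairHom f N M V ((β_ (pre O_D N) (pre O_D M)).inv.app (op V) z) =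
    lin ((preFunctor O_C).map (((symmIso O_C).hom.app (f.pull.obj M)).app (f.pull.obj N)))
      (op (f.fn.obj V)) (pairHom f M N V z)
  induction z using TensorProduct.induction_on with
  | zero => exact ((congrArg _ (map_zero _)).trans (map_zero _)).trans ((congrArg _ (map_zero _)).trans (map_zero _)).symm
  | tmul m n =>
    show pairT O_C (f.pull.obj N) (f.pull.obj M) (unitSec f N n) (unitSec f M m) = _
    rw [pairHom_tmul, swap_pairT]
  | add z₁ z₂ h₁ h₂ =>
    exact ((congrArg _ (map_add _ z₁ z₂)).trans (map_add _ _ _)).trans ((congrArg₂ (· + ·) h₁ h₂).trans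
      ((congrArg _ (map_add (pairHom f M N V) z₁ z₂)).trans (map_add _ _ _)).symm)

end Site

variable {X Y : Scheme.{u}} (f : X ⟶ Y)

theorem swap_pullTensorInv (M N : Y.Modules) :
    swapS ((Scheme.Modules.pullback f).obj M) ((Scheme.Modules.pullback f).obj N) ≫
        ((pullTensorBiIsoSch f).inv.app N).app M =
      ((pullTensorBiIsoSch f).inv.app M).app N ≫ (Scheme.Modules.pullback f).map (swapS M N) := by
  show _ ≫ (((pullTensorBiIsoSch f).app N).app M).inv = (((pullTensorBiIsoSch f).app M).app N).inv ≫ _
  rw [Iso.eq_inv_comp, ← Category.assoc, Iso.comp_inv_eq]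
  exact (tensorCmp_swap (ModSite.RMor.ofScheme f) M N).symm

/-- Inverse images of complexes respect the symmetry. -/
theorem symS_pullTensorCxIso (P Q : CochainComplex Y.Modules ℤ) :
    (symS ((pullCx f).obj P) ((pullCx f).obj Q)).hom ≫ (pullTensorCxIso f Q P).inv =
      (pullTensorCxIso f P Q).inv ≫ (pullCx f).map (symS P Q).hom := by
  haveI : (Scheme.Modules.pullback f).Additive :=
    (Scheme.Modules.pullbackPushforwardAdjunction f).left_adjoint_additive
  refine HomologicalComplex.hom_ext _ _ fun n => HomologicalComplex.mapBifunctor.hom_ext fun p q hpq => ?_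
  have h : p + q = n := hpq
  have hι : ∀ (A B : CochainComplex Y.Modules ℤ) (a b : ℤ) (hab : a + b = n),
      HomologicalComplex.ιMapBifunctor ((pullCx f).obj A) ((pullCx f).obj B) (DCoh.tensorBi (X := X))
          (ComplexShape.up ℤ) a b n hab ≫ (pullTensorCxIso f A B).inv.f n =
        ((pullTensorBiIsoSch f).inv.app (A.X a)).app (B.X b) ≫ (Scheme.Modules.pullback f).map
          (HomologicalComplex.ιMapBifunctor A B (DCoh.tensorBi (X := Y)) (ComplexShape.up ℤ) a b n hab) :=
    fun A B a b hab => KFlat.ι_mapTotX (pullTensorBiIsoSch f) A B a b n hab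
  show _ ≫ (symS _ _).hom.f n ≫ (pullTensorCxIso f Q P).inv.f n =
    _ ≫ (pullTensorCxIso f P Q).inv.f n ≫ (Scheme.Modules.pullback f).map ((symS P Q).hom.f n)
  rw [reassoc_of% (ι_symS ((pullCx f).obj P) ((pullCx f).obj Q) p q n h), reassoc_of% (hι P Q p q h),
    ← Functor.map_comp, ι_symS P Q p q n h, Functor.map_zsmul, Preadditive.comp_zsmul, Preadditive.zsmul_comp,
    Category.assoc, hι Q P q p (show q + p = n by omega), Functor.map_comp]
  refine congrArg _ ?_
  exact (Category.assoc _ _ _).symm.trans ((congrArg (· ≫ _) (swap_pullTensorInv f (P.X p) (Q.X q))).trans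
    (Category.assoc _ _ _))

/-- Restriction of complexes respects the symmetry. -/
theorem symS_restrictTensorNat (j : X ⟶ Y) [IsOpenImmersion j] (P Q : CochainComplex Y.Modules ℤ) :
    (symS ((resCx j).obj P) ((resCx j).obj Q)).hom ≫ (restrictTensorNat j P).inv.app Q =
      (restrictTensorNat j Q).inv.app P ≫ (resCx j).map (symS P Q).hom := by
  let r : resCx j ≅ pullCx j :=
    NatIso.mapHomologicalComplex (Scheme.Modules.restrictFunctorIsoPullback j) (ComplexShape.up ℤ)
  have e : ∀ A B : CochainComplex Y.Modules ℤ, (restrictTensorNat j B).inv.app A =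
      (DCoh.tensorCx.obj ((resCx j).obj A)).map (r.hom.app B) ≫
        (DCoh.tensorCx.map (r.hom.app A)).app ((pullCx j).obj B) ≫
        (pullTensorCxIso j A B).inv ≫ r.inv.app ((DCoh.tensorCx.obj A).obj B) := fun A B => by
    simp only [restrictTensorNat, Iso.trans_inv, NatTrans.comp_app, Functor.isoWhiskerLeft_inv,
      Functor.isoWhiskerRight_inv, Functor.whiskerLeft_app, Functor.whiskerRight_app, NatIso.ofComponents_inv_app,
      Category.assoc]
    rfl
  rw [e, e]
  rw [← Category.assoc, ← Category.assoc (_ : _ ⟶ _) ((DCoh.tensorCx.map (r.hom.app Q)).app _)]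
  have s1 := symS_natural_right ((resCx j).obj P) (r.hom.app Q)
  have s2 := symS_natural_left (r.hom.app P) ((pullCx j).obj Q)
  have s3 := symS_pullTensorCxIso j P Q
  have s4 : (pullCx j).map (symS P Q).hom ≫ r.inv.app _ = r.inv.app _ ≫ (resCx j).map (symS P Q).hom :=
    r.inv.naturality _
  simp only [Category.assoc]
  rw [← s4, ← reassoc_of% s3, reassoc_of% s2, reassoc_of% s1]
  have x : (DCoh.tensorCx.obj ((resCx j).obj Q)).map (r.hom.app P) ≫
      (DCoh.tensorCx.map (r.hom.app Q)).app ((pullCx j).obj P) =
      (DCoh.tensorCx.map (r.hom.app Q)).app ((resCx j).obj P) ≫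
        (DCoh.tensorCx.obj ((pullCx j).obj Q)).map (r.hom.app P) :=
    ((DCoh.tensorCx.map (r.hom.app Q)).naturality (r.hom.app P))
  rw [reassoc_of% x]

end Groth.Agent.DualTildeLib
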