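import Groth.Agent.RelPCLib.TildeTensor
import Groth.Agent.TildePerf.PC
import Groth.Agent.DCohLib.DualCx

/-!
# The sheaf of a tensor product of complexes, naturally in the first complex
-/

set_option autoImplicit false
set_option backward.isDefEq.respectTransparency false
set_option linter.style.haveILetI false
set_option linter.unusedSectionVars false
set_option maxHeartbeats 1000000

universe u

open CategoryTheory CategoryTheory.Limits CategoryTheory.MonoidalCategory AlgebraicGeometry
open Groth.Agent.DCohLib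

noncomputable section

namespace Groth.Agent.DualTildeLib

variable {R : CommRingCat.{u}}

/-- The sheaf of a tensor product of complexes. -/
def tilTensorIso (L S : CochainComplex (ModuleCat.{u} R) ℤ) :
    (DCoh.tensorCx.obj ((TildeLpull.tilCx R).obj L)).obj ((TildeLpull.tilCx R).obj S) ≅
      (TildeLpull.tilCx R).obj (L ⊗ S : CochainComplex (ModuleCat.{u} R) ℤ) :=
  HomologicalComplex.Hom.isoOfComponents
    (fun n => @asIso _ _ _ _ (KFlat.mapTotX (RelPCLib.tildeTensorBiIso R) L S n)
      (KFlat.isIso_mapTotX (RelPCLib.tildeTensorBiIso R) L S n))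
    fun n n' hn => KFlat.mapTotX_comm (RelPCLib.tildeTensorBiIso R) L S n n' hn

theorem ι_tilTensorIso (L S : CochainComplex (ModuleCat.{u} R) ℤ) (p q n : ℤ) (h : p + q = n) :
    HomologicalComplex.ιMapBifunctor ((TildeLpull.tilCx R).obj L) ((TildeLpull.tilCx R).obj S)
        (DCoh.tensorBi (X := Spec R)) (ComplexShape.up ℤ) p q n h ≫ (tilTensorIso L S).hom.f n =
      ((RelPCLib.tildeTensorBiIso R).inv.app (L.X p)).app (S.X q) ≫
        (tilde.functor R).map (HomologicalComplex.ιTensorObj L S p q n h) :=
  KFlat.ι_mapTotX (RelPCLib.tildeTensorBiIso R) L S p q n h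

theorem tilTensorIso_natural {L L' : CochainComplex (ModuleCat.{u} R) ℤ} (g : L ⟶ L')
    (S : CochainComplex (ModuleCat.{u} R) ℤ) :
    (tenR ((TildeLpull.tilCx R).obj S)).map ((TildeLpull.tilCx R).map g) ≫ (tilTensorIso L' S).hom =
      (tilTensorIso L S).hom ≫ (TildeLpull.tilCx R).map (g ▷ S) := by
  refine HomologicalComplex.hom_ext _ _ fun n => HomologicalComplex.mapBifunctor.hom_ext fun p q hpq => ?_
  have h : p + q = n := hpq
  have e1 : HomologicalComplex.ιTensorObj L S p q n h ≫ (g ▷ S).f n =
      (g.f p ▷ S.X q) ≫ HomologicalComplex.ιTensorObj L' S p q n h := by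
    refine (HomologicalComplex.ι_mapBifunctorMap g (𝟙 S) _ _ p q n hpq).trans ?_
    simp
  show _ ≫ (HomologicalComplex.mapBifunctorMap ((TildeLpull.tilCx R).map g) (𝟙 _) (DCoh.tensorBi (X := Spec R))
    (ComplexShape.up ℤ)).f n ≫ (tilTensorIso L' S).hom.f n = _ ≫ (tilTensorIso L S).hom.f n ≫
      (tilde.functor R).map ((g ▷ S).f n)
  rw [HomologicalComplex.ι_mapBifunctorMap_assoc, reassoc_of% (ι_tilTensorIso L S p q n h), ← Functor.map_comp, e1,
    Functor.map_comp, ι_tilTensorIso L' S p q n h]
  simp only [HomologicalComplex.id_f, CategoryTheory.Functor.map_id, Category.id_comp]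
  exact congrArg (· ≫ _) (congr_app ((RelPCLib.tildeTensorBiIso R).inv.naturality (g.f p)) (S.X q)) |>.trans
    (Category.assoc _ _ _) |> fun h => (Category.assoc _ _ _).symm.trans h

end Groth.Agent.DualTildeLib
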